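import Mathlib.LinearAlgebra.RootSystem.Base
import Mathlib.LinearAlgebra.RootSystem.Irreducible
import Mathlib.LinearAlgebra.RootSystem.Finite.Lemmas
import Mathlib.LinearAlgebra.RootSystem.Finite.Nondegenerate

/-!
# Roots off a block of simple roots
-/

universe u v w

open Submodule

namespace GrothLib.RootBlock20

variable {ι : Type u} {k : Type v} [Field k] [CharZero k]
  {M : Type w} [AddCommGroup M] [Module k M] {N : Type w} [AddCommGroup N] [Module k N]
  (P : RootPairing ι k M N)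

theorem exists_adjacent [Finite ι] [P.IsCrystallographic] [P.IsReduced] [P.IsIrreducible]
    (b : P.Base) (S : Set ι) (hS : S ⊆ b.support) (hne : S.Nonempty)
    (hproper : ∃ l ∈ b.support, l ∉ S) :
    ∃ i ∈ S, ∃ l ∈ b.support, l ∉ S ∧ P.pairingIn ℤ i l ≠ 0 := by
  by_contra! hcon
  let q : Submodule k M := span k (P.root '' S)
  have hq : ∀ l ∈ b.support, q ∈ Module.End.invtSubmodule (P.reflection l) := by
    intro l hl
    rw [Module.End.mem_invtSubmodule, span_le]
    rintro - ⟨i, hi, rfl⟩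
    simp only [comap_coe, Set.mem_preimage, SetLike.mem_coe]
    change P.reflection l (P.root i) ∈ q
    rw [P.reflection_apply_root]
    by_cases hlS : l ∈ S
    · exact sub_mem (subset_span (Set.mem_image_of_mem _ hi)) (smul_mem _ _ (subset_span (Set.mem_image_of_mem _ hlS)))
    · rw [← P.algebraMap_pairingIn ℤ, hcon i hi l hl hlS]
      simpa using subset_span (Set.mem_image_of_mem _ hi)
  obtain ⟨i₀, hi₀⟩ := hne
  have hqtop : q = ⊤ := by
    refine RootPairing.IsIrreducible.eq_top_of_invtSubmodule_reflection q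
      ((b.forall_mem_support_invtSubmodule_iff q).1 hq) fun hbot => P.ne_zero i₀ ?_
    have : P.root i₀ ∈ q := subset_span ⟨i₀, hi₀, rfl⟩
    rwa [hbot, mem_bot] at this
  obtain ⟨l, hl, hlS⟩ := hproper
  have hmem : P.root l ∈ q := hqtop ▸ mem_top
  have hsub : S ⊆ (b.support : Set ι) \ {l} := fun x hx =>
    ⟨hS hx, fun h : x = l => hlS (h ▸ hx)⟩
  exact linearIndepOn_iff_notMem_span.1 b.linearIndepOn_root l hl
    (span_mono (Set.image_mono hsub) hmem)

theorem pairingIn_eq_sum [P.IsCrystallographic] (s : Finset ι) (f : ι → ℕ) (j l : ι)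
    (hj : P.root j = ∑ i ∈ s, f i • P.root i) :
    P.pairingIn ℤ j l = ∑ i ∈ s, (f i : ℤ) * P.pairingIn ℤ i l := by
  apply FaithfulSMul.algebraMap_injective ℤ k
  rw [P.algebraMap_pairingIn, ← P.root_coroot'_eq_pairing, hj, map_sum, map_sum]
  refine Finset.sum_congr rfl fun i _ => ?_
  simp [nsmul_eq_mul, ← P.algebraMap_pairingIn ℤ]

theorem exists_root_off_block [Finite ι] [DecidableEq ι] [P.IsCrystallographic] [P.IsReduced]
    [P.IsIrreducible] (b : P.Base) (I A B : Finset ι) (hcover : I ∪ A ∪ B = b.support)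
    (hIA : Disjoint I A) (hIB : Disjoint I B) (hAB : Disjoint A B)
    (hA : A.Nonempty) (hB : B.Nonempty) :
    ∃ l ∈ A, ∃ j : ι, P.root j ∈ AddSubmonoid.closure (P.root '' ↑(I ∪ B)) ∧
      P.root j ∉ span k (P.root '' ↑I) ∧ P.pairingIn ℤ j l < 0 := by
  classical
  have hsupp : ∀ i, i ∈ b.support ↔ i ∈ I ∨ i ∈ A ∨ i ∈ B := fun i => by
    simp [← hcover]
  let Good : ι → (ι → ℕ) → Prop := fun j f =>
    P.root j = ∑ i ∈ b.support, f i • P.root i ∧ (∀ i ∈ A, f i = 0) ∧ ∃ i ∈ B, f i ≠ 0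
  have hclosure : ∀ j f, Good j f → P.root j ∈ AddSubmonoid.closure (P.root '' ↑(I ∪ B)) := by
    rintro j f ⟨hj, hfA, -⟩
    rw [hj]
    refine AddSubmonoid.sum_mem _ fun i hi => ?_
    rcases (hsupp i).1 hi with h | h | h
    · exact nsmul_mem (AddSubmonoid.subset_closure (Set.mem_image_of_mem _ (by simp [h]))) _
    · simp [hfA i h]
    · exact nsmul_mem (AddSubmonoid.subset_closure (Set.mem_image_of_mem _ (by simp [h]))) _
  have hspan : ∀ j f, Good j f → P.root j ∉ span k (P.root '' ↑I) := by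
    rintro j f ⟨hj, hfA, i₁, hi₁, hne⟩ hmem
    have hIs : (I : Set ι) ⊆ b.support := fun i hi => (hsupp i).2 (Or.inl hi)
    have hBs : (B : Set ι) ⊆ b.support := fun i hi => (hsupp i).2 (Or.inr (Or.inr hi))
    have hdec : P.root j = ∑ i ∈ I, f i • P.root i + ∑ i ∈ B, f i • P.root i := by
      rw [hj, ← hcover, Finset.sum_union (Finset.disjoint_union_left.2 ⟨hIB, hAB⟩),
        Finset.sum_union hIA, Finset.sum_eq_zero (s := A) fun i hi => by simp [hfA i hi], add_zero]
    have hsumI : ∑ i ∈ I, f i • P.root i ∈ span k (P.root '' ↑I) :=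
      sum_mem fun i hi => nsmul_mem (subset_span (Set.mem_image_of_mem _ hi)) _
    have hsumB : ∑ i ∈ B, f i • P.root i ∈ span k (P.root '' ↑B) :=
      sum_mem fun i hi => nsmul_mem (subset_span (Set.mem_image_of_mem _ hi)) _
    have hB' : ∑ i ∈ B, f i • P.root i ∈ span k (P.root '' ↑I) := by
      have := sub_mem hmem hsumI
      rwa [hdec, add_sub_cancel_left] at this
    have hd := ((linearIndepOn_union_iff (Finset.disjoint_coe.2 hIB)).1
      (b.linearIndepOn_root.mono (Set.union_subset hIs hBs))).2.2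
    have h0 : ∑ i ∈ B, (f i : k) • P.root i = 0 := by
      simpa [Nat.cast_smul_eq_nsmul] using (Submodule.disjoint_def.1 hd) _ hB' hsumB
    have := linearIndepOn_iff'.1 b.linearIndepOn_root B (fun i => (f i : k)) hBs h0 i₁ hi₁
    exact hne (by exact_mod_cast this)
  let S : Set ι := {i | i ∈ b.support ∧ ∃ j f, Good j f ∧ f i ≠ 0}
  have hBS : ∀ i ∈ B, i ∈ S := fun i hi => by
    have his := (hsupp i).2 (Or.inr (Or.inr hi))
    refine ⟨his, i, Pi.single i 1, ⟨?_, fun a ha => ?_, i, hi, by simp⟩, by simp⟩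
    · rw [Finset.sum_eq_single i (fun a _ hai => by simp [hai]) (fun h => absurd his h)]
      simp
    · exact Pi.single_eq_of_ne (fun h : a = i => Finset.disjoint_left.1 hAB ha (h.symm ▸ hi)) _
  have hSA : ∀ a ∈ A, a ∉ S := by
    rintro a ha ⟨-, j, f, ⟨-, hfA, -⟩, hfa⟩
    exact hfa (hfA a ha)
  obtain ⟨i, hiS, l, hl, hlS, hne⟩ := exists_adjacent P b S (fun i hi => hi.1)
    ⟨_, hBS _ hB.choose_spec⟩
    ⟨hA.choose, (hsupp _).2 (Or.inr (Or.inl hA.choose_spec)), hSA _ hA.choose_spec⟩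
  obtain ⟨his, j, f, hgood, hfi⟩ := hiS
  have hfl : f l = 0 := by
    by_contra hfl
    exact hlS ⟨hl, j, f, hgood, hfl⟩
  have hle : ∀ a ∈ b.support, (f a : ℤ) * P.pairingIn ℤ a l ≤ 0 := by
    intro a ha
    by_cases hal : a = l
    · subst hal; simp [hfl]
    · exact mul_nonpos_of_nonneg_of_nonpos (by positivity) (b.pairingIn_le_zero_of_ne hal ha hl)
  have hneg : P.pairingIn ℤ j l < 0 := by
    rw [pairingIn_eq_sum P b.support f j l hgood.1]
    refine Finset.sum_neg' hle ⟨i, his, ?_⟩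
    refine lt_of_le_of_ne (hle i his) (mul_ne_zero (by exact_mod_cast hfi) hne)
  rcases (hsupp l).1 hl with hlI | hlA | hlB
  · exfalso
    have hjl : P.root j ≠ -P.root l := fun h =>
      hspan j f hgood (h ▸ neg_mem (subset_span (Set.mem_image_of_mem _ hlI)))
    obtain ⟨m, hm⟩ := P.root_add_root_mem_of_pairingIn_neg hneg hjl
    refine hlS ⟨hl, m, f + Pi.single l 1, ⟨?_, fun a ha => ?_, ?_⟩, by simp [hfl]⟩
    · rw [hm, hgood.1]
      simp only [Pi.add_apply, add_smul, Finset.sum_add_distrib]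
      congr 1
      rw [Finset.sum_eq_single l (fun a _ hal => by simp [hal]) (fun h => absurd hl h)]
      simp
    · have hal : a ≠ l := fun h => Finset.disjoint_left.1 hIA hlI (h ▸ ha)
      simp [hgood.2.1 a ha, hal]
    · obtain ⟨i₁, hi₁, hne₁⟩ := hgood.2.2
      exact ⟨i₁, hi₁, by simp [hne₁]⟩
  · exact ⟨l, hlA, j, hclosure j f hgood, hspan j f hgood, hneg⟩
  · exact absurd (hBS l hlB) hlS

end GrothLib.RootBlock20
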